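import Groth.Agent.L02.TauOpen.Fibre

/-!
# Numerical triviality on fibres under base change, covers and unions
-/

set_option autoImplicit false
set_option backward.isDefEq.respectTransparency false
set_option linter.style.haveILetI false
set_option linter.unusedSectionVars false

universe u

open CategoryTheory CategoryTheory.Limits AlgebraicGeometry TopologicalSpace

noncomputable section

namespace Groth.L02.TauOpen

variable {X S : Scheme.{u}} (f : X ⟶ S) [IsProper f] {L : X.Modules} (hL : PicF.IsInvertible L)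

include hL in
/-- The locus is compatible with base change. -/
theorem fibNum_bc {S' : Scheme.{u}} (g : S' ⟶ S) (s' : S') :
    FibNum (pullback.snd f g) ((Scheme.Modules.pullback (pullback.fst f g)).obj L) s' ↔ FibNum f L (g s') := by
  obtain ⟨Ω, _, _, σ, hs⟩ := exists_geomPoint s'
  have hs' : Set.range (σ ≫ g).base = {g s'} := by
    rw [Scheme.Hom.comp_base, TopCat.coe_comp, Set.range_comp, hs, Set.image_singleton]
  have hL' := Groth.L18.Ample.isInvertible_pullback (pullback.fst f g) hL
  rw [← geomNum_iff (pullback.snd f g) hL' Ω σ s' hs, ← geomNum_iff f hL Ω (σ ≫ g) (g s') hs']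
  letI : (pullback (pullback.snd f g) σ).Over (Spec (CommRingCat.of Ω)) := ⟨pullback.snd _ σ⟩
  letI : (pullback f (σ ≫ g)).Over (Spec (CommRingCat.of Ω)) := ⟨pullback.snd _ _⟩
  haveI : IsProper (pullback (pullback.snd f g) σ ↘ Spec (CommRingCat.of Ω)) :=
    MorphismProperty.pullback_snd _ _ inferInstance
  haveI : IsProper (pullback f (σ ≫ g) ↘ Spec (CommRingCat.of Ω)) := MorphismProperty.pullback_snd _ _ inferInstance
  let e := pullbackLeftPullbackSndIso f g σ
  have he : e.hom ≫ (pullback f (σ ≫ g) ↘ Spec (CommRingCat.of Ω)) =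
      pullback (pullback.snd f g) σ ↘ Spec (CommRingCat.of Ω) := pullbackLeftPullbackSndIso_hom_snd f g σ
  let ε : (Scheme.Modules.pullback e.hom).obj ((Scheme.Modules.pullback (pullback.fst f (σ ≫ g))).obj L) ≅
      (Scheme.Modules.pullback (pullback.fst (pullback.snd f g) σ)).obj ((Scheme.Modules.pullback (pullback.fst f g)).obj L) :=
    (Scheme.Modules.pullbackComp e.hom _).app L ≪≫
      (Scheme.Modules.pullbackCongr (pullbackLeftPullbackSndIso_hom_fst f g σ)).app L ≪≫
      ((Scheme.Modules.pullbackComp (pullback.fst (pullback.snd f g) σ) (pullback.fst f g)).app L).symm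
  have hσ := Groth.L18.Ample.isInvertible_pullback (pullback.fst f (σ ≫ g)) hL
  exact ⟨fun h => num_of_surjective e.hom he hσ (num_congr (Groth.L18.Ample.isInvertible_pullback _ hL') ε.symm h),
    fun h => num_congr (Groth.L18.Ample.isInvertible_pullback _ hσ) ε (num_pullback e.hom he hσ h)⟩

include hL in
/-- Pullback to a scheme over `X`. -/
theorem fibNum_pullback {X' : Scheme.{u}} (π : X' ⟶ X) (f' : X' ⟶ S) (hf : π ≫ f = f') [IsProper f'] (s : S) :
    (FibNum f L s → FibNum f' ((Scheme.Modules.pullback π).obj L) s) ∧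
    (Surjective π → FibNum f' ((Scheme.Modules.pullback π).obj L) s → FibNum f L s) := by
  subst hf
  obtain ⟨Ω, _, _, σ, hs⟩ := exists_geomPoint s
  have hL' := Groth.L18.Ample.isInvertible_pullback π hL
  rw [← geomNum_iff (π ≫ f) hL' Ω σ s hs, ← geomNum_iff f hL Ω σ s hs]
  letI : (pullback (π ≫ f) σ).Over (Spec (CommRingCat.of Ω)) := ⟨pullback.snd _ σ⟩
  letI : (pullback f σ).Over (Spec (CommRingCat.of Ω)) := ⟨pullback.snd _ σ⟩
  haveI : IsProper (pullback (π ≫ f) σ ↘ Spec (CommRingCat.of Ω)) := MorphismProperty.pullback_snd _ _ inferInstance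
  haveI : IsProper (pullback f σ ↘ Spec (CommRingCat.of Ω)) := MorphismProperty.pullback_snd _ _ inferInstance
  let q : pullback (π ≫ f) σ ⟶ pullback f σ :=
    pullback.map (π ≫ f) σ f σ π (𝟙 _) (𝟙 _) (by simp) (by simp)
  have hq : q ≫ (pullback f σ ↘ Spec (CommRingCat.of Ω)) = pullback (π ≫ f) σ ↘ Spec (CommRingCat.of Ω) := by
    show q ≫ pullback.snd f σ = pullback.snd (π ≫ f) σ
    simp [q]
  have hsq : IsPullback q (pullback.fst (π ≫ f) σ) (pullback.fst f σ) π := by
    refine (IsPullback.of_right (h₁₂ := pullback.snd f σ) (h₂₂ := f) (v₁₃ := σ) ?_ (by simp [q])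
      (IsPullback.of_hasPullback f σ).flip)
    rw [show q ≫ pullback.snd f σ = pullback.snd (π ≫ f) σ by simp [q]]
    exact (IsPullback.of_hasPullback (π ≫ f) σ).flip
  let ε : (Scheme.Modules.pullback q).obj ((Scheme.Modules.pullback (pullback.fst f σ)).obj L) ≅
      (Scheme.Modules.pullback (pullback.fst (π ≫ f) σ)).obj ((Scheme.Modules.pullback π).obj L) :=
    (Scheme.Modules.pullbackComp q _).app L ≪≫ (Scheme.Modules.pullbackCongr hsq.w).app L ≪≫
      ((Scheme.Modules.pullbackComp (pullback.fst (π ≫ f) σ) π).app L).symm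
  have hσ := Groth.L18.Ample.isInvertible_pullback (pullback.fst f σ) hL
  refine ⟨fun h => num_congr (Groth.L18.Ample.isInvertible_pullback _ hσ) ε (num_pullback q hq hσ h), fun hπ h => ?_⟩
  haveI : Surjective q := MorphismProperty.IsStableUnderBaseChange.of_isPullback (P := @Surjective) hsq.flip hπ
  exact num_of_surjective q hq hσ (num_congr (Groth.L18.Ample.isInvertible_pullback _ hL') ε.symm h)

include hL in
/-- Numerical triviality on a union of closed subschemes. -/
theorem fibNum_union {m : ℕ} (Z : Fin m → Scheme.{u}) (z : ∀ j, Z j ⟶ X) [∀ j, IsClosedImmersion (z j)]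
    (s : S) (hcov : ∀ x : X, f x = s → ∃ j, x ∈ Set.range (z j).base)
    (h : ∀ j, FibNum (z j ≫ f) ((Scheme.Modules.pullback (z j)).obj L) s) : FibNum f L s := by
  obtain ⟨Ω, _, _, σ, hs⟩ := exists_geomPoint s
  rw [← geomNum_iff f hL Ω σ s hs]
  letI : (pullback f σ).Over (Spec (CommRingCat.of Ω)) := ⟨pullback.snd _ σ⟩
  intro Y i _ hY hdim
  haveI := hY
  -- the curve lies in the preimage of one of the pieces
  have hmem : ∃ j, i (genericPoint Y) ∈ Set.range (fun w => (pullback.fst (pullback.fst f σ) (z j)) w) := by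
    let x := i (genericPoint Y)
    have hx : f (pullback.fst f σ x) = s := by
      rw [← Scheme.Hom.comp_apply, pullback.condition, Scheme.Hom.comp_apply]
      simpa using hs.subset (Set.mem_range_self _)
    obtain ⟨j, w, hw⟩ := hcov _ hx
    obtain ⟨u, hu, -⟩ := Scheme.Pullback.exists_preimage_pullback x w hw.symm
    exact ⟨j, u, hu⟩
  obtain ⟨j, hj⟩ := hmem
  let c := pullback.fst i (pullback.fst (pullback.fst f σ) (z j))
  haveI : Surjective c := ⟨by
    rw [← Set.range_eq_univ]
    refine Set.eq_univ_of_univ_subset ?_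
    rw [← (genericPoint_spec Y).def]
    refine closure_minimal (Set.singleton_subset_iff.2 ?_) c.isClosedMap.isClosed_range
    obtain ⟨w, hw⟩ := hj
    obtain ⟨u, hu, -⟩ := Scheme.Pullback.exists_preimage_pullback (genericPoint Y) w hw.symm
    exact ⟨u, hu⟩⟩
  haveI : IsIso c := isIso_of_isClosedImmersion_of_surjective c
  -- transfer to the piece
  have hL' := Groth.L18.Ample.isInvertible_pullback (z j) hL
  letI : (pullback (z j ≫ f) σ).Over (Spec (CommRingCat.of Ω)) := ⟨pullback.snd _ σ⟩
  have h' := (geomNum_iff (z j ≫ f) hL' Ω σ s hs).2 (h j)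
  let q : pullback (z j ≫ f) σ ⟶ pullback f σ :=
    pullback.map (z j ≫ f) σ f σ (z j) (𝟙 _) (𝟙 _) (by simp) (by simp)
  let d : Y ⟶ pullback (z j ≫ f) σ := inv c ≫ pullback.snd i _ ≫
    pullback.lift (pullback.snd (pullback.fst f σ) (z j)) (pullback.fst (pullback.fst f σ) (z j) ≫ pullback.snd f σ)
      (by rw [← Category.assoc, ← pullback.condition, Category.assoc, pullback.condition, Category.assoc])
  have hdq : d ≫ q = i := by
    rw [← cancel_epi c]
    simp only [d, Category.assoc, IsIso.hom_inv_id_assoc]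
    apply pullback.hom_ext
    · simp [q, c, pullback.condition]
    · simp [q, c]
      rw [← pullback.condition_assoc]
  haveI : IsClosedImmersion (d ≫ q) := by rw [hdq]; infer_instance
  haveI : IsClosedImmersion q := by
    have hsq : IsPullback q (pullback.fst (z j ≫ f) σ) (pullback.fst f σ) (z j) := by
      refine (IsPullback.of_right (h₁₂ := pullback.snd f σ) (h₂₂ := f) (v₁₃ := σ) ?_ (by simp [q])
        (IsPullback.of_hasPullback f σ).flip)
      rw [show q ≫ pullback.snd f σ = pullback.snd (z j ≫ f) σ by simp [q]]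
      exact (IsPullback.of_hasPullback (z j ≫ f) σ).flip
    exact MorphismProperty.IsStableUnderBaseChange.of_isPullback (P := @IsClosedImmersion) hsq.flip inferInstance
  haveI : IsClosedImmersion d := IsClosedImmersion.of_comp_isClosedImmersion d q
  clear_value d
  have h1 := h' Y d hY hdim
  let ε : (Scheme.Modules.pullback d).obj ((Scheme.Modules.pullback (pullback.fst (z j ≫ f) σ)).obj
      ((Scheme.Modules.pullback (z j)).obj L)) ≅
      (Scheme.Modules.pullback i).obj ((Scheme.Modules.pullback (pullback.fst f σ)).obj L) :=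
    (Scheme.Modules.pullbackComp d _).app _ ≪≫ (Scheme.Modules.pullbackComp (d ≫ pullback.fst _ σ) (z j)).app L ≪≫
      (Scheme.Modules.pullbackCongr (show (d ≫ pullback.fst (z j ≫ f) σ) ≫ z j = i ≫ pullback.fst f σ by
        rw [← hdq, Category.assoc, Category.assoc, show q ≫ pullback.fst f σ = pullback.fst (z j ≫ f) σ ≫ z j from
          pullback.lift_fst _ _ _])).app L ≪≫ ((Scheme.Modules.pullbackComp i (pullback.fst f σ)).app L).symm
  have hstr : d ≫ pullback.snd (z j ≫ f) σ = i ≫ pullback.snd f σ := by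
    rw [← hdq, Category.assoc, show q ≫ pullback.snd f σ = pullback.snd (z j ≫ f) σ by simp [q]]
  show Pic13.curveDeg Ω (i ≫ pullback.snd f σ) _ = 0
  rw [← h1]
  show Pic13.curveDeg Ω (i ≫ pullback.snd f σ) _ = Pic13.curveDeg Ω (d ≫ pullback.snd (z j ≫ f) σ) _
  rw [hstr]
  unfold Pic13.curveDeg
  letI : Y.Over (Spec (CommRingCat.of Ω)) := ⟨i ≫ pullback.snd f σ⟩
  rw [FGA.eulerCharLE, FGA.eulerCharLE, Finset.sum_congr rfl fun n _ => by
    rw [Groth.L03.Euler.finrank_HH_of_iso ε.symm n]]
  rfl

end Groth.L02.TauOpen
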