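import Groth.Agent.L02.TauOpen.Generize
import Groth.Agent.S4932

/-!
# The flat closure of a curve in the generic fibre over a discrete valuation ring
-/

set_option autoImplicit false
set_option backward.isDefEq.respectTransparency false
set_option linter.style.haveILetI false
set_option linter.unusedSectionVars false

universe u

open CategoryTheory CategoryTheory.Limits AlgebraicGeometry TopologicalSpace

noncomputable section

namespace Groth.L02.TauOpen

open Groth.L03.Euler

/-- An integral closed subscheme of the generic fibre specialises, keeping dimension and degrees. -/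
theorem exists_flat_closure {D : Type u} [CommRing D] [IsDomain D] [IsDiscreteValuationRing D]
    {W : Scheme.{u}} (p : W ⟶ Spec (CommRingCat.of D)) [IsProper p] {M : W.Modules} (hM : PicF.IsInvertible M)
    (η : Spec (CommRingCat.of D)) (hη : η.asIdeal = ⊥)
    {Y : Scheme.{u}} (i : Y ⟶ p.fiber η) [IsClosedImmersion i] [IsIntegral Y] {n : ℕ}
    (hdim : topologicalKrullDim Y ≤ n) :
    ∃ (Z : Scheme.{u}) (z : Z ⟶ W), IsClosedImmersion z ∧
      topologicalKrullDim ↥((z ≫ p).fiber (IsLocalRing.closedPoint D)) ≤ n ∧
      ((@Curv2.euler ((Spec (CommRingCat.of D)).residueField η) _ Y ⟨i ≫ p.fiberToSpecResidueField η⟩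
          ((Scheme.Modules.pullback i).obj ((Scheme.Modules.pullback (p.fiberι η)).obj M)) -
        @Curv2.euler ((Spec (CommRingCat.of D)).residueField η) _ Y ⟨i ≫ p.fiberToSpecResidueField η⟩
          (Coh.structureModule Y)) =
      PerfAux.eulerChar (z ≫ p) ((Scheme.Modules.pullback z).obj M) (IsLocalRing.closedPoint D) -
        PerfAux.eulerChar (z ≫ p) (Coh.structureModule Z) (IsLocalRing.closedPoint D)) := by
  let B := Spec (CommRingCat.of D)
  let c : B := IsLocalRing.closedPoint D
  letI : (p.fiber η).Over (Spec (CommRingCat.of (B.residueField η))) := ⟨p.fiberToSpecResidueField η⟩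
  haveI : IsProper (p.fiberToSpecResidueField η) := MorphismProperty.pullback_snd _ _ inferInstance
  haveI : IsLocallyNoetherian B := inferInstance
  haveI : IsLocallyNoetherian W := LocallyOfFiniteType.isLocallyNoetherian p
  haveI : QuasiCompact (p.fiberι η) :=
    inferInstanceAs (QuasiCompact (pullback.fst p (B.fromSpecResidueField η)))
  let j := i ≫ p.fiberι η
  haveI : Flat (B.fromSpecResidueField η) := by
    obtain ⟨ψ, hψ⟩ := Spec.map_surjective (B.fromSpecResidueField η)
    rw [← hψ, HasRingHomProperty.Spec_iff (P := @Flat)]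
    letI : Algebra D (B.residueField η) := ψ.hom.toAlgebra
    show Module.Flat D _
    rw [IsDedekindDomain.flat_iff_torsion_eq_bot, eq_bot_iff]
    rintro a ⟨⟨r, hr⟩, hra⟩
    refine (mul_eq_zero.1 (show ψ.hom r * a = 0 from hra)).resolve_left fun h0 => nonZeroDivisors.ne_zero hr ?_
    obtain ⟨w⟩ : Nonempty (Spec (B.residueField η)) := inferInstance
    have hw : Spec.map ψ w = η := by
      have h1 : Set.range (Spec.map ψ) = {η} := by rw [hψ, Scheme.range_fromSpecResidueField]
      exact Set.mem_singleton_iff.1 (h1.subset ⟨w, rfl⟩)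
    have hmem : r ∈ η.asIdeal := by
      rw [← hw]
      show ψ.hom r ∈ w.asIdeal
      rw [h0]
      exact zero_mem _
    rwa [hη, Ideal.mem_bot] at hmem
  -- the closure of the curve is flat
  let z := j.imageι
  haveI : Flat (z ≫ p) := by
    haveI : IsField (B.residueField η) := Field.toIsField _
    haveI := Groth.L02.STD.toImage_dominant j
    haveI : Flat (j.toImage ≫ z ≫ p) := by
      rw [Scheme.Hom.toImage_imageι_assoc]
      show Flat ((i ≫ pullback.fst p _) ≫ p)
      rw [Category.assoc, pullback.condition, ← Category.assoc]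
      haveI : Flat (i ≫ pullback.snd p (B.fromSpecResidueField η)) := inferInstance
      infer_instance
    exact Groth.L02.STD.flat_of_dominant D j.toImage _
  haveI : IsProper (z ≫ p) := inferInstance
  haveI : IsLocallyNoetherian j.image := LocallyOfFiniteType.isLocallyNoetherian z
  haveI : LocallyOfFinitePresentation (z ≫ p) :=
    LocallyOfFinitePresentation.iff_locallyOfFiniteType.2 inferInstance
  have hMz := Groth.L18.Ample.isInvertible_pullback z hM
  have hlc : ∀ G : j.image.Modules, PicF.IsInvertible G →
      IsLocallyConstant (fun b => PerfAux.eulerChar (z ≫ p) G b) := fun G hG =>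
    Groth.Agent.S1026.result (z ≫ p) G (Groth.L15.Ref.isFP_of_isCoh (Groth.L16.ProperFinite.isCoh_of_isInvertible hG))
      (Groth.Agent.Pic0.isFlatOver_of_isInvertible (z ≫ p) hG)
  have hspec : η ⤳ c := (PrimeSpectrum.le_iff_specializes η c).1 (by
    show η.asIdeal ≤ c.asIdeal; rw [hη]; exact bot_le)
  have heq : ∀ G : j.image.Modules, PicF.IsInvertible G →
      PerfAux.eulerChar (z ≫ p) G η = PerfAux.eulerChar (z ≫ p) G c := fun G hG =>
    hspec.mem_open ((hlc G hG).isOpen_fiber (PerfAux.eulerChar (z ≫ p) G c)) rfl
  letI : ((z ≫ p).fiber η).Over (Spec (CommRingCat.of (B.residueField η))) := ⟨(z ≫ p).fiberToSpecResidueField η⟩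
  let q : (z ≫ p).fiber η ⟶ p.fiber η := pullback.map (z ≫ p) (B.fromSpecResidueField η) p
    (B.fromSpecResidueField η) z (𝟙 _) (𝟙 _) (by simp) (by simp)
  have hq1 : q ≫ p.fiberι η = (z ≫ p).fiberι η ≫ z := pullback.lift_fst _ _ _
  have hq2 : q ≫ p.fiberToSpecResidueField η = (z ≫ p).fiberToSpecResidueField η :=
    (pullback.lift_snd _ _ _).trans (Category.comp_id _)
  have hsq : IsPullback q ((z ≫ p).fiberι η) (p.fiberι η) z := by
    refine (IsPullback.of_right (h₁₂ := p.fiberToSpecResidueField η) (h₂₂ := p)
      (v₁₃ := B.fromSpecResidueField η) ?_ hq1 (IsPullback.of_hasPullback p _).flip)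
    rw [hq2]
    exact (IsPullback.of_hasPullback (z ≫ p) _).flip
  haveI : IsClosedImmersion q :=
    MorphismProperty.IsStableUnderBaseChange.of_isPullback (P := @IsClosedImmersion) hsq.flip inferInstance
  let e : Y ⟶ (z ≫ p).fiber η := hsq.lift i j.toImage (by rw [Scheme.Hom.toImage_imageι])
  have he : e ≫ q = i := hsq.lift_fst _ _ _
  haveI : IsClosedImmersion (e ≫ q) := by rw [he]; infer_instance
  haveI : IsClosedImmersion e := IsClosedImmersion.of_comp_isClosedImmersion e q
  haveI : Surjective e := ⟨fun w => by
    have hemb : Topology.IsEmbedding (p.fiberι η) := (p.fiberι η).isEmbedding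
    have hw : p.fiberι η (q w) ∈ closure (p.fiberι η '' Set.range i) := by
      rw [← Scheme.Hom.comp_apply, hq1, Scheme.Hom.comp_apply, ← Set.range_comp]
      have : Set.range z.base = closure (Set.range j.base) := by
        exact (Scheme.IdealSheafData.range_subschemeι _).trans (Scheme.Hom.support_ker j)
      exact this.subset ⟨_, rfl⟩
    have : q w ∈ closure (Set.range i) := by
      rw [hemb.closure_eq_preimage_closure_image]; exact hw
    rw [i.isClosedMap.isClosed_range.closure_eq] at this
    obtain ⟨y, hy⟩ := this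
    exact ⟨y, q.isClosedEmbedding.injective (by rw [← Scheme.Hom.comp_apply, he, hy])⟩⟩
  haveI : IsReduced ((z ≫ p).fiber η) := by
    haveI : IsReduced Y := inferInstance
    haveI : IsReduced j.image := Groth.L20.Chevalley.isReduced_image j
    let u := (z ≫ p).fiberι η
    haveI : Flat u := MorphismProperty.pullback_fst _ _ inferInstance
    haveI : ∀ x, _root_.IsReduced (((z ≫ p).fiber η).presheaf.stalk x) := fun x => by
      algebraize [(u.stalkMap x).hom]
      haveI : Module.FaithfullyFlat (j.image.presheaf.stalk (u x)) (((z ≫ p).fiber η).presheaf.stalk x) :=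
        @Module.FaithfullyFlat.of_flat_of_isLocalHom _ _ _ _ _ _ _ (Flat.stalkMap u x) (u.toLRSHom.prop x)
      have hb : Function.Bijective (u.stalkMap x).hom :=
        ⟨‹RingHom.FaithfullyFlat _›.injective, u.stalkMap_surjective x⟩
      exact isReduced_of_injective (RingEquiv.ofBijective _ hb).symm.toRingHom (RingEquiv.injective _)
    exact isReduced_of_isReduced_stalk _
  haveI : IsIso e := isIso_of_isClosedImmersion_of_surjective e
  letI : Y.Over (Spec (CommRingCat.of (B.residueField η))) := ⟨i ≫ p.fiberToSpecResidueField η⟩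
  haveI : IsProper (Y ↘ Spec (CommRingCat.of (B.residueField η))) :=
    inferInstanceAs (IsProper (i ≫ p.fiberToSpecResidueField η))
  haveI := Groth.L21.RR.isNoetherian_of_proper (X := Y) (B.residueField η)
  have hstr : e ≫ (z ≫ p).fiberToSpecResidueField η = i ≫ p.fiberToSpecResidueField η := by
    rw [← he, Category.assoc, hq2]
  have key : ∀ G : j.image.Modules, Coh.IsCoh G →
      Curv2.euler (B.residueField η) Y ((Scheme.Modules.pullback e).obj ((Scheme.Modules.pullback ((z ≫ p).fiberι η)).obj G)) =
        PerfAux.eulerChar (z ≫ p) G η := fun G hG => by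
    rw [eulerChar_eq]
    haveI : IsProper ((z ≫ p).fiber η ↘ Spec (CommRingCat.of (B.residueField η))) :=
      MorphismProperty.pullback_snd _ _ inferInstance
    have sq : IsPullback e (Y ↘ Spec (CommRingCat.of (B.residueField η)))
        ((z ≫ p).fiber η ↘ Spec (CommRingCat.of (B.residueField η)))
        (Spec.map (CommRingCat.ofHom (algebraMap (B.residueField η) (B.residueField η)))) := by
      rw [Algebra.algebraMap_self, show CommRingCat.ofHom (RingHom.id (B.residueField η)) = 𝟙 _ from rfl, Spec.map_id]
      exact IsPullback.of_horiz_isIso ⟨hstr.trans (Category.comp_id _).symm⟩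
    exact Groth.L21.RR.euler_pullback e sq (Groth.L16.AffineBC.isCoh_pullback _ hG)
  haveI : IsIntegral j.image := by
    haveI : IsReduced j.image := Groth.L20.Chevalley.isReduced_image j
    haveI : Nonempty ↥j.image := ⟨j.toImage (Classical.arbitrary Y)⟩
    haveI : IrreducibleSpace ↥j.image := by
      have hd : DenseRange j.toImage.base := Scheme.Hom.denseRange j.toImage
      exact irreducibleSpace_def _ |>.2 (by
        have h1 := ((IrreducibleSpace.isIrreducible_univ Y).image j.toImage j.toImage.continuous.continuousOn).closure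
        rwa [Set.image_univ, hd.closure_range] at h1)
    exact isIntegral_of_irreducibleSpace_of_isReduced _
  have hgen : η = genericPoint B :=
    (PrimeSpectrum.ext hη).trans (genericPoint_eq_bot_of_affine (CommRingCat.of D)).symm
  refine ⟨j.image, z, inferInstance, ?_, ?_⟩
  · by_cases hne : Nonempty ↥((z ≫ p).fiber c)
    · haveI : IsDominant (z ≫ p) := ⟨by
        obtain ⟨w⟩ : Nonempty ↥((z ≫ p).fiber η) := ⟨e (Classical.arbitrary Y)⟩
        refine Dense.mono (Set.singleton_subset_iff.2 (show η ∈ Set.range (z ≫ p).base from ⟨(z ≫ p).fiberι η w, ?_⟩)) ?_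
        · exact ((z ≫ p).range_fiberι η).subset ⟨w, rfl⟩
        · rw [hgen, dense_iff_closure_eq]; exact (genericPoint_spec B).def⟩
      rw [Groth.Agent.S4932.result (z ≫ p) hne, ← hgen]
      refine le_of_eq_of_le ?_ hdim
      exact (IsHomeomorph.topologicalKrullDim_eq e.base (Scheme.homeoOfIso (asIso e)).isHomeomorph).symm
    · haveI : IsEmpty ↥((z ≫ p).fiber c) := not_nonempty_iff.1 hne
      haveI : IsEmpty (IrreducibleCloseds ↥((z ≫ p).fiber c)) := ⟨fun T => isEmptyElim T.isIrreducible.1.some⟩
      rw [topologicalKrullDim, Order.krullDim_eq_bot]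
      exact bot_le
  · rw [← heq _ hMz, ← heq _ (Groth.L18.Ample.isInvertible_structureModule _),
      ← key _ (Groth.L16.ProperFinite.isCoh_of_isInvertible hMz), ← key _ Groth.L16.CohClosedPush.isCoh_structure]
    refine congrArg₂ (· - ·) ?_ ?_
    · exact euler_iso ((Scheme.Modules.pullbackComp i (p.fiberι η)).app M ≪≫
        (Scheme.Modules.pullbackCongr (show i ≫ p.fiberι η = (e ≫ (z ≫ p).fiberι η) ≫ z by
          rw [← he, Category.assoc, hq1, Category.assoc])).app M ≪≫
        ((Scheme.Modules.pullbackComp (e ≫ (z ≫ p).fiberι η) z).app M).symm ≪≫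
        ((Scheme.Modules.pullbackComp e ((z ≫ p).fiberι η)).app _).symm)
    · exact (euler_iso ((Scheme.Modules.pullback e).mapIso (Groth.L29.LocFree.pullbackUnitIso _) ≪≫
        Groth.L29.LocFree.pullbackUnitIso e)).symm

end Groth.L02.TauOpen
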