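import Groth.Agent.L02.Pic13Deg.GeomEuler
import Groth.Agent.L22.Nef.Surjective
import Groth.Agent.L22.Nef.Proper
import Groth.Agent.S4277
import Groth.Agent.S4278
import Groth.Agent.S14811

/-!
# Numerical triviality on fibres
-/

set_option autoImplicit false
set_option backward.isDefEq.respectTransparency false
set_option linter.style.haveILetI false
set_option linter.unusedSectionVars false

universe u

open CategoryTheory CategoryTheory.Limits AlgebraicGeometry TopologicalSpace

noncomputable section

namespace Groth.L02.TauOpen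

open Groth.L22.Nef Groth.L11.NumOrth Groth.L22.Inter

variable {k : Type u} [Field k] {X C : Scheme.{u}} [X.Over (Spec (CommRingCat.of k))]
  [IsProper (X ↘ Spec (CommRingCat.of k))] [C.Over (Spec (CommRingCat.of k))]
  [IsProper (C ↘ Spec (CommRingCat.of k))]

theorem num_congr {L L' : X.Modules} (hL : PicF.IsInvertible L) (e : L ≅ L')
    (h : Pic13.IsNumEquivZero k X L) : Pic13.IsNumEquivZero k X L' :=
  (numZero_iff k (Groth.L18.Ample.isInvertible_of_iso e hL)).2 fun y hy =>
    (altT_congr k (fun _ => ⟨e⟩) _).symm.trans ((numZero_iff k hL).1 h y hy)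

/-- Numerical triviality pulls back along any morphism of proper schemes. -/
theorem num_pullback (f : C ⟶ X) (hf : f ≫ (X ↘ Spec (CommRingCat.of k)) = C ↘ Spec (CommRingCat.of k))
    {L : X.Modules} (hL : PicF.IsInvertible L) (h : Pic13.IsNumEquivZero k X L) :
    Pic13.IsNumEquivZero k C ((Scheme.Modules.pullback f).obj L) := by
  obtain ⟨Q, hQ, ⟨e⟩⟩ := Groth.L08.Cube.exists_inverse hL
  obtain ⟨h1, h2⟩ := (numZero_iff_isNef k hL hQ e).1 h
  exact (numZero_iff_isNef k (Groth.L18.Ample.isInvertible_pullback f hL) (Groth.L18.Ample.isInvertible_pullback f hQ)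
    (Groth.L29.DC.PullTensor.pullTensor f L Q ≪≫ (Scheme.Modules.pullback f).mapIso e ≪≫
      Groth.L29.LocFree.pullbackUnitIso f)).2 ⟨h1.pullback' f hf, h2.pullback' f hf⟩

/-- Numerical triviality descends along surjective morphisms. -/
theorem num_of_surjective (f : C ⟶ X) [Surjective f]
    (hf : f ≫ (X ↘ Spec (CommRingCat.of k)) = C ↘ Spec (CommRingCat.of k))
    {L : X.Modules} (hL : PicF.IsInvertible L) (h : Pic13.IsNumEquivZero k C ((Scheme.Modules.pullback f).obj L)) :
    Pic13.IsNumEquivZero k X L := by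
  obtain ⟨Q, hQ, ⟨e⟩⟩ := Groth.L08.Cube.exists_inverse hL
  obtain ⟨h1, h2⟩ := (numZero_iff_isNef k (Groth.L18.Ample.isInvertible_pullback f hL) (Groth.L18.Ample.isInvertible_pullback f hQ)
    (Groth.L29.DC.PullTensor.pullTensor f L Q ≪≫ (Scheme.Modules.pullback f).mapIso e ≪≫
      Groth.L29.LocFree.pullbackUnitIso f)).1 h
  exact (numZero_iff_isNef k hL hQ e).2 ⟨IsNef.of_pullback f hf hL h1, IsNef.of_pullback f hf hQ h2⟩

end Groth.L02.TauOpen

namespace Groth.L02.TauOpen

variable {X S : Scheme.{u}} (f : X ⟶ S)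

/-- Numerical triviality on the fibre at a point. -/
def FibNum (L : X.Modules) (s : S) : Prop :=
  @Pic13.IsNumEquivZero (S.residueField s) _ (f.fiber s) ⟨f.fiberToSpecResidueField s⟩
    ((Scheme.Modules.pullback (f.fiberι s)).obj L)

variable [IsProper f] {L : X.Modules} (hL : PicF.IsInvertible L)

include hL in
/-- The fibre and any geometric fibre over it are numerically trivial together. -/
theorem geomNum_iff (Ω : Type u) [Field Ω] (σ : Spec (CommRingCat.of Ω) ⟶ S) (s : S)
    (hs : Set.range σ.base = {s}) :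
    @Pic13.IsNumEquivZero Ω _ (pullback f σ) ⟨pullback.snd f σ⟩ ((Scheme.Modules.pullback (pullback.fst f σ)).obj L) ↔
      FibNum f L s := by
  have hy : σ (IsLocalRing.closedPoint Ω) = s := by
    simpa [hs] using (Set.mem_range_self (f := σ.base) (IsLocalRing.closedPoint Ω))
  subst hy
  let y := σ (IsLocalRing.closedPoint Ω)
  letI : (f.fiber y).Over (Spec (CommRingCat.of (S.residueField y))) := ⟨f.fiberToSpecResidueField y⟩
  letI : (pullback f σ).Over (Spec (CommRingCat.of Ω)) := ⟨pullback.snd f σ⟩
  let φ := Scheme.descResidueField (Scheme.stalkClosedPointTo σ)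
  letI : Algebra (S.residueField y) Ω := φ.hom.toAlgebra
  have hte : Spec.map φ ≫ S.fromSpecResidueField y = σ :=
    Scheme.descResidueField_stalkClosedPointTo_fromSpecResidueField Ω S σ
  haveI : IsProper (f.fiberToSpecResidueField y) := MorphismProperty.pullback_snd _ _ inferInstance
  haveI : IsProper (f.fiber y ↘ Spec (CommRingCat.of (S.residueField y))) :=
    inferInstanceAs (IsProper (f.fiberToSpecResidueField y))
  haveI : IsProper (pullback f σ ↘ Spec (CommRingCat.of Ω)) := MorphismProperty.pullback_snd _ _ inferInstance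
  let a := Spec.map (CommRingCat.ofHom (algebraMap (S.residueField y) Ω))
  let p : pullback f σ ⟶ f.fiber y := pullback.lift (pullback.fst f σ) (pullback.snd f σ ≫ a)
    (by rw [Category.assoc, show a ≫ S.fromSpecResidueField y = σ from hte]; exact pullback.condition)
  have hp : p ≫ f.fiberι y = pullback.fst f σ := pullback.lift_fst _ _ _
  have sq : IsPullback p (pullback.snd f σ) (f.fiberToSpecResidueField y) a := by
    refine IsPullback.of_right (h₁₂ := f.fiberι y) (h₂₂ := S.fromSpecResidueField y) (v₁₃ := f) ?_ ?_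
      (IsPullback.of_hasPullback f (S.fromSpecResidueField y))
    · rw [hp, show a ≫ S.fromSpecResidueField y = σ from hte]
      exact IsPullback.of_hasPullback f σ
    · exact pullback.lift_snd _ _ _
  let π := pullback.fst (f.fiber y ↘ Spec (CommRingCat.of (S.residueField y))) a
  letI : (pullback (f.fiber y ↘ Spec (CommRingCat.of (S.residueField y))) a).Over (Spec (CommRingCat.of Ω)) :=
    ⟨pullback.snd _ _⟩
  haveI : IsProper (pullback (f.fiber y ↘ Spec (CommRingCat.of (S.residueField y))) a ↘ Spec (CommRingCat.of Ω)) :=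
    MorphismProperty.pullback_snd _ _ inferInstance
  let e : pullback f σ ≅ pullback (f.fiber y ↘ Spec (CommRingCat.of (S.residueField y))) a := sq.isoPullback
  have he : e.hom ≫ (pullback (f.fiber y ↘ Spec (CommRingCat.of (S.residueField y))) a ↘ Spec (CommRingCat.of Ω)) =
      pullback f σ ↘ Spec (CommRingCat.of Ω) := sq.isoPullback_hom_snd
  have hF := Groth.L18.Ample.isInvertible_pullback (f.fiberι y) hL
  have hπ := Groth.L18.Ample.isInvertible_pullback π hF
  let ε : (Scheme.Modules.pullback e.hom).obj ((Scheme.Modules.pullback π).obj ((Scheme.Modules.pullback (f.fiberι y)).obj L)) ≅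
      (Scheme.Modules.pullback (pullback.fst f σ)).obj L :=
    (Scheme.Modules.pullbackComp e.hom π).app _ ≪≫ (Scheme.Modules.pullbackComp (e.hom ≫ π) (f.fiberι y)).app L ≪≫
      (Scheme.Modules.pullbackCongr (show (e.hom ≫ π) ≫ f.fiberι y = pullback.fst f σ by
        rw [show e.hom ≫ π = p from sq.isoPullback_hom_fst, hp])).app L
  refine Iff.trans ?_ (Groth.Agent.S14811.result (S.residueField y) (f.fiber y) _ hF Ω).symm
  exact ⟨fun h => num_of_surjective e.hom he hπ (num_congr (Groth.L18.Ample.isInvertible_pullback _ hL) ε.symm h),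
    fun h => num_congr (Groth.L18.Ample.isInvertible_pullback _ hπ) ε (num_pullback e.hom he hπ h)⟩

/-- A geometric point at any point. -/
theorem exists_geomPoint (s : S) : ∃ (Ω : Type u) (_ : Field Ω) (_ : IsAlgClosed Ω)
    (σ : Spec (CommRingCat.of Ω) ⟶ S), Set.range σ.base = {s} := by
  refine ⟨AlgebraicClosure (S.residueField s), inferInstance, inferInstance,
    Spec.map (CommRingCat.ofHom (algebraMap (S.residueField s) _)) ≫ S.fromSpecResidueField s,
    Set.eq_singleton_iff_nonempty_unique_mem.2 ⟨Set.range_nonempty _, ?_⟩⟩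
  rintro _ ⟨y, rfl⟩
  exact (Scheme.range_fromSpecResidueField s).subset ⟨_, rfl⟩

include hL in
/-- τ-triviality on the geometric fibres is numerical triviality on the fibre. -/
theorem isTauTrivialAt_iff (s : S) : Pic13.IsTauTrivialAt f L s ↔ FibNum f L s := by
  constructor
  · intro h
    obtain ⟨Ω, _, _, σ, hs⟩ := exists_geomPoint s
    letI : (pullback f σ).Over (Spec (CommRingCat.of Ω)) := ⟨pullback.snd f σ⟩
    haveI : IsProper (pullback f σ ↘ Spec (CommRingCat.of Ω)) := MorphismProperty.pullback_snd _ _ inferInstance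
    exact (geomNum_iff f hL Ω σ s hs).1
      (Groth.Agent.S4278.result Ω _ _ (Groth.L18.Ample.isInvertible_pullback _ hL) (h Ω σ hs))
  · intro h Ω _ _ σ hs
    letI : (pullback f σ).Over (Spec (CommRingCat.of Ω)) := ⟨pullback.snd f σ⟩
    haveI : IsProper (pullback f σ ↘ Spec (CommRingCat.of Ω)) := MorphismProperty.pullback_snd _ _ inferInstance
    exact Groth.Agent.S4277.result Ω _ _ (Groth.L18.Ample.isInvertible_pullback _ hL)
      ((geomNum_iff f hL Ω σ s hs).2 h)

end Groth.L02.TauOpen
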