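import Groth.Agent.L02.TauOpen.Generic
import Groth.Agent.L22.Inter.Point
import Groth.Agent.S4646
import Groth.Agent.L22.GeomConn.Irred
import Mathlib.RingTheory.DedekindDomain.IntegralClosure

/-!
# Spreading numerical triviality: geometric components after a finite extension
-/

set_option autoImplicit false
set_option backward.isDefEq.respectTransparency false
set_option backward.isDefEq.respectTransparency.types false
set_option linter.style.haveILetI false
set_option linter.unusedSectionVars false

universe u

open CategoryTheory CategoryTheory.Limits AlgebraicGeometry TopologicalSpace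

noncomputable section

namespace Groth.L02.TauOpen

/-- A finite domain over `A` with prescribed finite fraction field. -/
theorem exists_finite_subalgebra (A K E : Type u) [CommRing A] [IsDomain A] [Field K] [Algebra A K]
    [IsFractionRing A K] [Field E] [Algebra K E] [Algebra A E] [IsScalarTower A K E] [FiniteDimensional K E] :
    ∃ A' : Subalgebra A E, Module.Finite A A' ∧ IsFractionRing A' E := by
  classical
  let b := Module.finBasis K E
  obtain ⟨y, hy, hint⟩ := exists_integral_multiples (A := A) (K := K) (L := E) (Finset.univ.image b)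
  let t : Set E := (fun x => y • x) '' (Set.range b)
  let A' := Algebra.adjoin A t
  have hfin : Module.Finite A A' := Module.Finite.iff_fg.2 (fg_adjoin_of_finite ((Set.finite_range b).image _) (by
    rintro _ ⟨_, ⟨i, rfl⟩, rfl⟩
    exact hint _ (Finset.mem_image_of_mem _ (Finset.mem_univ i))))
  refine ⟨A', hfin, IsFractionRing.of_field A' E fun z => ?_⟩
  suffices h : ∃ a : A, a ≠ 0 ∧ a • z ∈ A' by
    obtain ⟨a, ha, hz⟩ := h
    refine ⟨⟨a • z, hz⟩, algebraMap A A' a, ?_⟩
    have hae : algebraMap A E a ≠ 0 := by
      rw [IsScalarTower.algebraMap_apply A K E]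
      exact (map_ne_zero _).2 (by simpa using ha)
    show z = (a • z) / algebraMap A E a
    rw [Algebra.smul_def, mul_div_cancel_left₀ _ hae]
  have hz : z ∈ Submodule.span K (Set.range b) := by rw [b.span_eq]; trivial
  induction hz using Submodule.span_induction with
  | mem x hx => exact ⟨y, hy, Algebra.subset_adjoin ⟨x, hx, rfl⟩⟩
  | zero => exact ⟨1, one_ne_zero, by simp⟩
  | add x x' _ _ h h' =>
    obtain ⟨a, ha, hx⟩ := h
    obtain ⟨a', ha', hx'⟩ := h'
    refine ⟨a * a', mul_ne_zero ha ha', ?_⟩
    rw [smul_add, show (a * a') • x = a' • (a • x) by rw [smul_smul, mul_comm], mul_smul]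
    exact A'.add_mem (A'.smul_mem hx a') (A'.smul_mem hx' a)
  | smul c x _ h =>
    obtain ⟨a, ha, hx⟩ := h
    obtain ⟨p, q, hq, rfl⟩ := IsFractionRing.div_surjective (A := A) c
    refine ⟨q * a, mul_ne_zero (nonZeroDivisors.ne_zero hq) ha, ?_⟩
    have hqK : algebraMap A K q ≠ 0 := by simpa using nonZeroDivisors.ne_zero hq
    have : (q * a) • ((algebraMap A K p / algebraMap A K q) • x) = p • (a • x) := by
      rw [← IsScalarTower.algebraMap_smul K (q * a), ← IsScalarTower.algebraMap_smul K p,
        ← IsScalarTower.algebraMap_smul K a, smul_smul, smul_smul, map_mul]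
      congr 1
      field_simp
    rw [this]
    exact A'.smul_mem hx p

/-- Numerical triviality at the generic point of an affine integral Noetherian base spreads out. -/
theorem exists_open_fibNum (A : Type u) [CommRing A] [IsDomain A] [IsNoetherianRing A] {X : Scheme.{u}}
    (f : X ⟶ Spec (CommRingCat.of A)) [IsProper f] {H : X.Modules} (hHi : PicF.IsInvertible H) (hH : GeomAmple f H)
    {L : X.Modules} (hL : PicF.IsInvertible L) (η : Spec (CommRingCat.of A)) (hη : η.asIdeal = ⊥)
    (h : FibNum f L η) :
    ∃ U : (Spec (CommRingCat.of A)).Opens, η ∈ U ∧ ∀ s ∈ U, FibNum f L s := by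
  classical
  let K := FractionRing A
  let aK := Spec.map (CommRingCat.ofHom (algebraMap A K))
  let fK := pullback.snd f aK
  haveI : IsLocallyNoetherian (pullback f aK) := LocallyOfFiniteType.isLocallyNoetherian fK
  haveI : CompactSpace ↥(pullback f aK) := QuasiCompact.compactSpace_of_compactSpace fK
  haveI : IsNoetherian (pullback f aK) := {}
  haveI : NoetherianSpace ↥(pullback f aK) := inferInstance
  haveI : Finite ↥(irreducibleComponents ↥(pullback f aK)) :=
    (TopologicalSpace.NoetherianSpace.finite_irreducibleComponents).to_subtype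
  obtain ⟨E, _, _, hfd, -, hgeo⟩ := Groth.Agent.S4646.result fK (fun Z hZ => by
    refine ⟨(Spec.preimage ((pullback f aK).fromSpecResidueField hZ.1.genericPoint ≫ fK)).hom, ?_, ?_⟩
    · exact Spec.map_preimage _
    · letI := (Spec.preimage ((pullback f aK).fromSpecResidueField hZ.1.genericPoint ≫ fK)).hom.toAlgebra
      exact Groth.L22.GeomConn.finiteDimensional_separableClosure fK _ (Spec.map_preimage _))
  haveI := hfd
  letI : Algebra A E := ((algebraMap K E).comp (algebraMap A K)).toAlgebra
  haveI : IsScalarTower A K E := IsScalarTower.of_algebraMap_eq fun _ => rfl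
  obtain ⟨A', hA'fin, hA'frac⟩ := exists_finite_subalgebra A K E
  haveI := hA'fin; haveI := hA'frac
  haveI : IsNoetherianRing A' := IsNoetherianRing.of_finite A A'
  let T := Spec (CommRingCat.of A')
  let g : T ⟶ Spec (CommRingCat.of A) := Spec.map (CommRingCat.ofHom (algebraMap A A'))
  let b : Spec (CommRingCat.of E) ⟶ T := Spec.map (CommRingCat.ofHom (algebraMap A' E))
  let aE := Spec.map (CommRingCat.ofHom (algebraMap K E))
  have hbg : b ≫ g = aE ≫ aK := by
    rw [← Spec.map_comp, ← Spec.map_comp]
    rfl
  let η' : T := ⟨⊥, Ideal.isPrime_bot⟩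
  have hgen : genericPoint T = η' := genericPoint_eq_bot_of_affine (CommRingCat.of A')
  have hη' : ∀ t : T, g t = η → t = η' := fun t ht => PrimeSpectrum.ext (by
    refine Ideal.eq_bot_of_comap_eq_bot (R := A) (S := A') ?_
    rw [← hη, ← ht]; rfl)
  haveI : IsPreimmersion b := IsPreimmersion.of_isLocalization (nonZeroDivisors A')
  have hrb : Set.range b.base = {η'} := by
    refine Set.eq_singleton_iff_nonempty_unique_mem.2 ⟨Set.range_nonempty _, ?_⟩
    rintro _ ⟨y, rfl⟩
    refine PrimeSpectrum.ext ?_
    show y.asIdeal.comap (algebraMap A' E) = ⊥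
    rw [(Ideal.eq_bot_or_top y.asIdeal).resolve_right y.isPrime.ne_top]
    exact Ideal.comap_bot_of_injective _ (IsFractionRing.injective A' E)
  have hgη : g η' = η := PrimeSpectrum.ext (by
    show (⊥ : Ideal A').comap (algebraMap A A') = η.asIdeal
    rw [hη]
    refine Ideal.comap_bot_of_injective _ fun a a' haa => ?_
    have := congrArg (Subtype.val : A' → E) haa
    exact (IsFractionRing.injective A K) ((algebraMap K E).injective this))
  let f' := pullback.snd f g
  let X' := pullback f g
  haveI : IsProper f' := MorphismProperty.pullback_snd _ _ inferInstance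
  haveI : IsLocallyNoetherian X' := LocallyOfFiniteType.isLocallyNoetherian f'
  haveI : CompactSpace ↥X' := QuasiCompact.compactSpace_of_compactSpace f'
  haveI : IsNoetherian X' := {}
  have hH' := hH.bc g
  have hHi' := Groth.L18.Ample.isInvertible_pullback (pullback.fst f g) hHi
  have hL' := Groth.L18.Ample.isInvertible_pullback (pullback.fst f g) hL
  have h' : FibNum f' ((Scheme.Modules.pullback (pullback.fst f g)).obj L) η' :=
    (fibNum_bc f hL g η').2 (hgη.symm ▸ h)
  -- the generic fibre over `E`
  let XE := FBase.bc fK E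
  let π : XE ⟶ X' := pullback.lift (FBase.bcπ fK E ≫ pullback.fst f aK) (FBase.bcStr fK E ≫ b) (by
    rw [Category.assoc, Category.assoc, hbg, pullback.condition]
    show pullback.fst fK aE ≫ pullback.snd f aK ≫ aK = pullback.snd fK aE ≫ aE ≫ aK
    rw [← Category.assoc, ← Category.assoc]
    exact congrArg (· ≫ aK) pullback.condition)
  have hsqE : IsPullback π (FBase.bcStr fK E) f' b := by
    refine IsPullback.of_right (h₁₂ := pullback.fst f g) (h₂₂ := g) (v₁₃ := f) ?_ (pullback.lift_snd _ _ _)
      (IsPullback.of_hasPullback f g)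
    rw [show π ≫ pullback.fst f g = FBase.bcπ fK E ≫ pullback.fst f aK from pullback.lift_fst _ _ _, hbg]
    exact (IsPullback.of_hasPullback fK aE).paste_horiz (IsPullback.of_hasPullback f aK)
  haveI : IsPreimmersion π :=
    MorphismProperty.IsStableUnderBaseChange.of_isPullback (P := @IsPreimmersion) hsqE.flip inferInstance
  have hrπ : Set.range π.base = f' ⁻¹' {η'} := by
    rw [← hrb]
    simpa [Set.image_univ] using Scheme.image_preimage_eq_of_isPullback hsqE.flip (Set.univ : Set (Spec (CommRingCat.of E)))
  haveI : LocallyOfFiniteType (FBase.bcStr fK E) :=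
    MorphismProperty.pullback_snd _ _ inferInstance
  haveI : QuasiCompact (FBase.bcStr fK E) := MorphismProperty.pullback_snd _ _ inferInstance
  haveI : IsLocallyNoetherian XE := LocallyOfFiniteType.isLocallyNoetherian (FBase.bcStr fK E)
  haveI : CompactSpace ↥XE := QuasiCompact.compactSpace_of_compactSpace (FBase.bcStr fK E)
  haveI : IsNoetherian XE := {}
  haveI : Finite ↥(irreducibleComponents ↥XE) :=
    (TopologicalSpace.NoetherianSpace.finite_irreducibleComponents).to_subtype
  let w : irreducibleComponents ↥XE → X' := fun C => π C.2.1.genericPoint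
  let z := fun C => (Groth.L22.Inter.pt (w C)).subschemeι
  have hzr : ∀ C, Set.range (z C).base = closure {w C} := fun C => Groth.L22.Inter.range_pt _
  have hpre : ∀ C : irreducibleComponents ↥XE, π ⁻¹' closure {w C} = (C : Set XE) := fun C => by
    rw [show closure {w C} = closure (π '' {C.2.1.genericPoint}) by rw [Set.image_singleton],
      ← π.isEmbedding.closure_eq_preimage_closure_image]
    exact (C.2.1.isGenericPoint_genericPoint (isClosed_of_mem_irreducibleComponents _ C.2)).def
  haveI : IsIntegral T := inferInstance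
  -- each component spreads
  have hC : ∀ C, ∃ U : T.Opens, η' ∈ U ∧ ∀ t ∈ U,
      FibNum (z C ≫ f') ((Scheme.Modules.pullback (z C)).obj ((Scheme.Modules.pullback (pullback.fst f g)).obj L)) t := by
    intro C
    let K1 := AlgebraicClosure E
    let σ : Spec (CommRingCat.of K1) ⟶ T := Spec.map (CommRingCat.ofHom (algebraMap E K1)) ≫ b
    have hσ : σ (IsLocalRing.closedPoint K1) = η' := hrb.subset ⟨_, rfl⟩
    let P := FBase.bc (FBase.bcStr fK E) K1
    have hP : IsPullback (FBase.bcπ (FBase.bcStr fK E) K1 ≫ π) (FBase.bcStr (FBase.bcStr fK E) K1) f' σ :=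
      (IsPullback.of_hasPullback _ _).paste_horiz hsqE
    let W := pullback (z C ≫ f') σ
    let ψ : W ⟶ P := hP.lift (pullback.fst (z C ≫ f') σ ≫ z C) (pullback.snd _ σ)
      (by rw [Category.assoc]; exact pullback.condition)
    have hψ : IsPullback (pullback.fst (z C ≫ f') σ) ψ (z C) (FBase.bcπ (FBase.bcStr fK E) K1 ≫ π) := by
      refine IsPullback.of_bot (h₃₁ := σ) (v₂₁ := FBase.bcStr (FBase.bcStr fK E) K1) (v₂₂ := f') ?_
        (hP.lift_fst _ _ _).symm hP
      rw [hP.lift_snd]
      exact IsPullback.of_hasPullback (z C ≫ f') σ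
    haveI : IsClosedImmersion ψ :=
      MorphismProperty.IsStableUnderBaseChange.of_isPullback (P := @IsClosedImmersion) hψ inferInstance
    haveI : IrreducibleSpace ↥W := by
      have hirr := hgeo K1 C C.2
      have hr : Set.range ψ.base = ⇑(FBase.bcπ (FBase.bcStr fK E) K1) ⁻¹' (C : Set XE) := by
        have h0 : Set.range ψ.base = (FBase.bcπ (FBase.bcStr fK E) K1 ≫ π) ⁻¹' Set.range (z C).base := by
          simpa [Set.image_univ] using Scheme.image_preimage_eq_of_isPullback hψ
            (Set.univ : Set (Groth.L22.Inter.pt (w C)).subscheme)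
        rw [h0, hzr, Scheme.Hom.comp_base, TopCat.coe_comp, Set.preimage_comp, hpre]
      rw [← hr] at hirr
      exact irreducibleSpace_def _ |>.2 (by
        have h1 := ψ.isEmbedding.toHomeomorph
        exact (by
          have := hirr
          haveI : IrreducibleSpace ↥(Set.range ψ.base) := Subtype.irreducibleSpace this
          simpa using (IrreducibleSpace.isIrreducible_univ ↥(Set.range ψ.base)).image h1.symm
            h1.symm.continuous.continuousOn))
    haveI : IsIntegral (Groth.L22.Inter.pt (w C)).subscheme := Groth.L22.Inter.isIntegral_pt _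
    haveI : IsClosedImmersion (z C) := inferInstance
    obtain ⟨U, hU, hUn⟩ := exists_open_fibNum_irr (z C ≫ f') (Groth.L18.Ample.isInvertible_pullback (z C) hL')
      (Groth.L18.Ample.isInvertible_pullback (z C) hHi') (hH'.comp (z C))
      (hgen ▸ count_eq_one (z C ≫ f') K1 σ η' hσ)
      (hgen ▸ (fibNum_pullback f' hL' (z C) (z C ≫ f') rfl η').1 h')
    exact ⟨U, hgen ▸ ((genericPoint_spec T).mem_open_set_iff U.isOpen).2 (by rwa [Set.univ_inter]), hUn⟩
  choose U hηU hU using hC
  let Bad : Set T := ⋃ C ∈ {C ∈ irreducibleComponents ↥X' | ∃ x, IsGenericPoint x C ∧ f' x ≠ η'},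
    closure (f' '' C)
  have hbad : IsClosed Bad :=
    ((TopologicalSpace.NoetherianSpace.finite_irreducibleComponents).subset fun C hC => hC.1).isClosed_biUnion
      fun C _ => isClosed_closure
  have hηbad : η' ∉ Bad := by
    simp only [Bad, Set.mem_iUnion, not_exists]
    rintro C ⟨-, x, hx, hne⟩ hm
    have h1 : closure (f' '' C) ⊆ closure {f' x} := by
      refine closure_minimal ?_ isClosed_closure
      rintro _ ⟨c, hc, rfl⟩
      exact specializes_iff_mem_closure.1 ((hx.specializes hc).map f'.continuous)
    exact hne ((specializes_iff_mem_closure.2 (h1 hm)).antisymm (hgen ▸ (genericPoint_spec T).specializes trivial)).eq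
  let U' : T.Opens := ⟨(⋂ C, (U C : Set T)) ∩ Badᶜ,
    (isOpen_iInter_of_finite fun C => (U C).isOpen).inter hbad.isOpen_compl⟩
  have hηU' : η' ∈ U' := ⟨Set.mem_iInter.2 hηU, hηbad⟩
  have hU' : ∀ t ∈ U', FibNum f' ((Scheme.Modules.pullback (pullback.fst f g)).obj L) t := by
    intro t ht
    let e := Finite.equivFin ↥(irreducibleComponents ↥XE)
    refine fibNum_union f' hL' (fun j => (Groth.L22.Inter.pt (w (e.symm j))).subscheme) (fun j => z (e.symm j)) t
      (fun x hx => ?_) fun j => hU _ t (Set.mem_iInter.1 ht.1 _)
    let C' := irreducibleComponent x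
    have hC' : IsIrreducible C' := isIrreducible_irreducibleComponent
    have hgp : IsGenericPoint hC'.genericPoint C' := hC'.isGenericPoint_genericPoint isClosed_irreducibleComponent
    have hfη : f' hC'.genericPoint = η' := by
      by_contra hne
      refine ht.2 (Set.mem_biUnion (x := C')
        ⟨irreducibleComponent_mem_irreducibleComponents x, _, hgp, hne⟩ ?_)
      exact subset_closure ⟨x, mem_irreducibleComponent, hx⟩
    obtain ⟨y, hy⟩ : hC'.genericPoint ∈ Set.range π.base := by rw [hrπ]; exact hfη
    let C : ↥(irreducibleComponents ↥XE) := ⟨_, irreducibleComponent_mem_irreducibleComponents y⟩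
    refine ⟨e C, ?_⟩
    rw [Equiv.symm_apply_apply, hzr]
    have hyC : π y ∈ closure {w C} := by
      have : y ∈ π ⁻¹' closure {w C} := by rw [hpre C]; exact mem_irreducibleComponent
      exact this
    rw [hy] at hyC
    exact (hgp.specializes mem_irreducibleComponent).mem_closed isClosed_closure hyC
  haveI : IsFinite g := (IsFinite.SpecMap_iff _).2 (RingHom.finite_algebraMap.2 hA'fin)
  haveI : Surjective g := by
    refine ⟨fun p => ?_⟩
    haveI : FaithfulSMul A A' := (faithfulSMul_iff_algebraMap_injective A A').2 fun a a' haa =>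
      (IsFractionRing.injective A K) ((algebraMap K E).injective (congrArg (Subtype.val : A' → E) haa))
    exact Algebra.IsIntegral.comap_surjective A A' p
  refine ⟨⟨(g '' (U' : Set T)ᶜ)ᶜ, (g.isClosedMap _ U'.isOpen.isClosed_compl).isOpen_compl⟩, ?_, fun s hs => ?_⟩
  · rintro ⟨t, ht, htη⟩
    exact ht (hη' t htη ▸ hηU')
  · obtain ⟨t, rfl⟩ := Surjective.surj (f := g) s
    exact (fibNum_bc f hL g t).1 (hU' t (not_not.1 fun hn => hs ⟨t, hn, rfl⟩))

end Groth.L02.TauOpen
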