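import Groth.Agent.L02.TauOpen.Irr
import Groth.Agent.L22.WeakAssPoints
import Groth.Agent.S1336
import Groth.Agent.S4698

/-!
# Spreading numerical triviality from the generic point of an integral base
-/

set_option autoImplicit false
set_option backward.isDefEq.respectTransparency false
set_option backward.isDefEq.respectTransparency.types false
set_option linter.style.haveILetI false
set_option linter.unusedSectionVars false

universe u

open CategoryTheory CategoryTheory.Limits AlgebraicGeometry TopologicalSpace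

noncomputable section

namespace Groth.L02.TauOpen

variable {X Y : Scheme.{u}} (f : X ⟶ Y)

theorem flat_stalkMap_of_isFlatOverAt {x : X} (h : FlatMod.IsFlatOverAt f (Coh.structureModule X) x) :
    (f.stalkMap x).hom.Flat := by
  letI : Algebra (Y.presheaf.stalk (f x)) (X.presheaf.stalk x) := (f.stalkMap x).hom.toAlgebra
  letI := FlatMod.moduleStalkOver f (Coh.structureModule X) x
  let σ : X.presheaf.stalk x ≃ₗ[X.presheaf.stalk x] (Coh.structureModule X).presheaf.stalk x := LinearEquiv.ofBijective
    (LinearMap.toSpanSingleton (X.presheaf.stalk x) ((Coh.structureModule X).presheaf.stalk x)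
      (Groth.L22.oneGerm x))
    ⟨(injective_iff_map_eq_zero _).2 fun a ha => Groth.L22.eq_zero_of_smul_oneGerm ha,
      Groth.L22.stalk_smul_oneGerm_surjective x⟩
  let e : ((Coh.structureModule X).presheaf.stalk x : Type u) ≃ₗ[Y.presheaf.stalk (f x)]
      (X.presheaf.stalk x : Type u) :=
    { σ.symm.toAddEquiv with
      map_smul' := fun a m => σ.symm.map_smul ((f.stalkMap x).hom a) m }
  exact @Module.Flat.of_linearEquiv _ _ _ _ _ _ _ _ h e.symm

/-- Generic flatness in morphism form. -/
theorem exists_open_flat [IsIntegral Y] [IsLocallyNoetherian Y] [LocallyOfFiniteType f] [QuasiCompact f] :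
    ∃ U : Y.Opens, (U : Set Y).Nonempty ∧ Flat (f ∣_ U) := by
  haveI : IsLocallyNoetherian X := LocallyOfFiniteType.isLocallyNoetherian f
  obtain ⟨U, hU, hfl⟩ := Groth.Agent.S4698.result f (Coh.structureModule X) Groth.L16.CohClosedPush.isCoh_structure
  refine ⟨U, hU, (Flat.iff_flat_stalkMap _).2 fun x => ?_⟩
  haveI := RingHom.toMorphismProperty_respectsIso_iff.mp RingHom.Flat.respectsIso
  exact (MorphismProperty.arrow_mk_iso_iff (RingHom.toMorphismProperty RingHom.Flat)
    (morphismRestrictStalkMap f U x)).2 (flat_stalkMap_of_isFlatOverAt f (hfl x.1 x.2))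

variable [IsProper f] {L : X.Modules} (hL : PicF.IsInvertible L)

include hL in
/-- One geometric component at the generic point: the locus contains an open. -/
theorem exists_open_fibNum_irr [IsIntegral Y] [IsLocallyNoetherian Y] {H : X.Modules} (hHi : PicF.IsInvertible H)
    (hH : GeomAmple f H) (hirr : MoreMor.nGeomIrredComp f (genericPoint Y) = 1)
    (h : FibNum f L (genericPoint Y)) : ∃ U : Y.Opens, (U : Set Y).Nonempty ∧ ∀ s ∈ U, FibNum f L s := by
  obtain ⟨V, -, hηV, hV, hcount⟩ := Groth.Agent.S1336.result f (genericPoint Y)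
  have hVo : IsOpen V := by
    have hcl : closure ({genericPoint Y} : Set Y) = Set.univ := (genericPoint_spec Y).def
    rw [isOpen_induced_iff] at hV
    obtain ⟨O, hO, hOV⟩ := hV
    rwa [show V = O from Set.ext fun v => (Set.ext_iff.1 hOV ⟨v, hcl ▸ trivial⟩).symm]
  obtain ⟨U₁, hU₁, hfl⟩ := exists_open_flat f
  let U : Y.Opens := U₁ ⊓ ⟨V, hVo⟩
  have hηU : genericPoint Y ∈ U :=
    ⟨((genericPoint_spec Y).mem_open_set_iff U₁.isOpen).2 (by rwa [Set.univ_inter]), hηV⟩
  refine ⟨U, ⟨_, hηU⟩, fun s hs => ?_⟩
  let g := U.ι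
  let f' := pullback.snd f g
  haveI : Flat f' := by
    let a : (U : Scheme) ⟶ U₁ := Y.homOfLE inf_le_left
    have hag : a ≫ U₁.ι = g := Y.homOfLE_ι _
    have hb := (isPullback_morphismRestrict f U₁).flip
    have hsq : IsPullback (hb.lift (pullback.fst f g) (pullback.snd f g ≫ a)
        (by rw [Category.assoc, hag]; exact pullback.condition)) f' (f ∣_ U₁) a :=
      IsPullback.of_right (h₁₂ := (f ⁻¹ᵁ U₁).ι) (h₂₂ := U₁.ι) (v₁₃ := f)
        (by rw [hb.lift_fst, hag]; exact IsPullback.of_hasPullback f g) (hb.lift_snd _ _ _) hb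
    exact MorphismProperty.IsStableUnderBaseChange.of_isPullback (P := @Flat) hsq hfl
  haveI : IsLocallyNoetherian (U : Scheme) := inferInstance
  haveI : IsLocallyNoetherian (pullback f g) := LocallyOfFiniteType.isLocallyNoetherian f'
  haveI : LocallyOfFinitePresentation f' := LocallyOfFinitePresentation.iff_locallyOfFiniteType.2 inferInstance
  have hL' := Groth.L18.Ample.isInvertible_pullback (pullback.fst f g) hL
  have hcount' : ∀ t, MoreMor.nGeomIrredComp f' t = 1 := fun t =>
    (Groth.Agent.S1334.result f f' (pullback.fst f g) g (IsPullback.of_hasPullback f g) t).trans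
      ((hcount (g t) t.2.2).trans hirr)
  have hclosed := isClosed_fibNum f' hL' (Groth.L18.Ample.isInvertible_pullback _ hHi) (hH.bc g)
    fun Ω _ σ => irreducible_of_count f' hcount' Ω σ
  have hgen : (⟨genericPoint Y, hηU⟩ : U) ∈ {t | FibNum f' ((Scheme.Modules.pullback (pullback.fst f g)).obj L) t} :=
    (fibNum_bc f hL g ⟨genericPoint Y, hηU⟩).2 h
  have hspec : (⟨genericPoint Y, hηU⟩ : U) ⤳ ⟨s, hs⟩ :=
    (subtype_specializes_iff _ _).2 ((genericPoint_spec Y).specializes trivial)
  exact (fibNum_bc f hL g ⟨s, hs⟩).1 (hspec.mem_closed hclosed hgen)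

end Groth.L02.TauOpen
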