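import Groth.Agent.L02.TauOpen.Change
import Groth.Agent.L02.Misc.STD
import Groth.Agent.L20.Chevalley.Birat
import Groth.Agent.L09.SubtrNoeth
import Groth.Agent.S18266
import Groth.Agent.S14812
import Groth.Agent.S1026

/-!
# The locus of numerical triviality is stable under generization
-/

set_option autoImplicit false
set_option backward.isDefEq.respectTransparency false
set_option linter.style.haveILetI false
set_option linter.unusedSectionVars false

universe u

open CategoryTheory CategoryTheory.Limits AlgebraicGeometry TopologicalSpace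

noncomputable section

namespace Groth.L02.TauOpen

open Groth.L03.Euler

variable {X S : Scheme.{u}} (f : X ⟶ S) [IsProper f] {L : X.Modules} (hL : PicF.IsInvertible L)

omit [IsProper f] in
/-- A fibre Euler characteristic in the notation of proper schemes over a field. -/
theorem eulerChar_eq (G : X.Modules) (s : S) :
    PerfAux.eulerChar f G s = @Curv2.euler (S.residueField s) _ (f.fiber s) ⟨f.fiberToSpecResidueField s⟩
      ((Scheme.Modules.pullback (f.fiberι s)).obj G) := rfl

include hL in
theorem euler_eq_of_fibNum (s : S) (h : FibNum f L s) :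
    PerfAux.eulerChar f L s = PerfAux.eulerChar f (Coh.structureModule X) s := by
  letI : (f.fiber s).Over (Spec (CommRingCat.of (S.residueField s))) := ⟨f.fiberToSpecResidueField s⟩
  haveI : IsProper (f.fiber s ↘ Spec (CommRingCat.of (S.residueField s))) :=
    MorphismProperty.pullback_snd _ _ inferInstance
  haveI := Groth.L21.RR.isNoetherian_of_proper (X := f.fiber s) (S.residueField s)
  have hLi := Groth.L18.Ample.isInvertible_pullback (f.fiberι s) hL
  obtain ⟨d, hd⟩ := exists_dim_bound (S.residueField s) (f.fiber s)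
  have h' := (Groth.Agent.S14812.result (S.residueField s) (f.fiber s) _ hLi).1 h (Coh.structureModule (f.fiber s))
    Groth.L16.CohClosedPush.isCoh_structure d hd
  rw [Groth.L22.Inter.eulerCharLE_eq _ hd, Groth.L22.Inter.eulerCharLE_eq _ hd,
    euler_iso (k := S.residueField s) (Groth.L00.Tensor.tensorUnitLeft _)] at h'
  rw [eulerChar_eq, eulerChar_eq, h']
  exact euler_iso (Groth.L29.LocFree.pullbackUnitIso (f.fiberι s)).symm

/-- Over a discrete valuation ring, numerical triviality at the closed point gives it at the generic one. -/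
theorem fibNum_genPt {D : Type u} [CommRing D] [IsDomain D] [IsDiscreteValuationRing D]
    {W : Scheme.{u}} (p : W ⟶ Spec (CommRingCat.of D)) [IsProper p] {M : W.Modules} (hM : PicF.IsInvertible M)
    (c η : Spec (CommRingCat.of D)) (hη : η.asIdeal = ⊥) (h : FibNum p M c) : FibNum p M η := by
  let B := Spec (CommRingCat.of D)
  letI : (p.fiber η).Over (Spec (CommRingCat.of (B.residueField η))) := ⟨p.fiberToSpecResidueField η⟩
  haveI : IsProper (p.fiberToSpecResidueField η) := MorphismProperty.pullback_snd _ _ inferInstance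
  intro Y i _ hY hdim
  haveI := hY
  haveI : IsLocallyNoetherian B := inferInstance
  haveI : IsLocallyNoetherian W := LocallyOfFiniteType.isLocallyNoetherian p
  haveI : QuasiCompact (p.fiberι η) :=
    inferInstanceAs (QuasiCompact (pullback.fst p (B.fromSpecResidueField η)))
  let j := i ≫ p.fiberι η
  haveI : Flat (B.fromSpecResidueField η) := by
    obtain ⟨ψ, hψ⟩ := Spec.map_surjective (B.fromSpecResidueField η)
    rw [← hψ, HasRingHomProperty.Spec_iff (P := @Flat)]
    letI : Algebra D (B.residueField η) := ψ.hom.toAlgebra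
    show Module.Flat D _
    rw [IsDedekindDomain.flat_iff_torsion_eq_bot, eq_bot_iff]
    rintro a ⟨⟨r, hr⟩, hra⟩
    refine (mul_eq_zero.1 (show ψ.hom r * a = 0 from hra)).resolve_left fun h0 => nonZeroDivisors.ne_zero hr ?_
    obtain ⟨w⟩ : Nonempty (Spec (B.residueField η)) := inferInstance
    have hw : Spec.map ψ w = η := by
      have h1 : Set.range (Spec.map ψ) = {η} := by rw [hψ, Scheme.range_fromSpecResidueField]
      exact Set.mem_singleton_iff.1 (h1.subset ⟨w, rfl⟩)
    have hmem : r ∈ η.asIdeal := by
      rw [← hw]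
      show ψ.hom r ∈ w.asIdeal
      rw [h0]
      exact zero_mem _
    rwa [hη, Ideal.mem_bot] at hmem
  -- the closure of the curve is flat
  let z := j.imageι
  haveI : Flat (z ≫ p) := by
    haveI : IsField (B.residueField η) := Field.toIsField _
    haveI := Groth.L02.STD.toImage_dominant j
    haveI : Flat (j.toImage ≫ z ≫ p) := by
      rw [Scheme.Hom.toImage_imageι_assoc]
      show Flat ((i ≫ pullback.fst p _) ≫ p)
      rw [Category.assoc, pullback.condition, ← Category.assoc]
      haveI : Flat (i ≫ pullback.snd p (B.fromSpecResidueField η)) := inferInstance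
      infer_instance
    exact Groth.L02.STD.flat_of_dominant D j.toImage _
  haveI : IsProper (z ≫ p) := inferInstance
  haveI : IsLocallyNoetherian j.image := LocallyOfFiniteType.isLocallyNoetherian z
  haveI : LocallyOfFinitePresentation (z ≫ p) :=
    LocallyOfFinitePresentation.iff_locallyOfFiniteType.2 inferInstance
  have hMz := Groth.L18.Ample.isInvertible_pullback z hM
  have hc := euler_eq_of_fibNum (z ≫ p) hMz c ((fibNum_pullback p hM z (z ≫ p) rfl c).1 h)
  have hlc : ∀ G : j.image.Modules, PicF.IsInvertible G →
      IsLocallyConstant (fun b => PerfAux.eulerChar (z ≫ p) G b) := fun G hG =>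
    Groth.Agent.S1026.result (z ≫ p) G (Groth.L15.Ref.isFP_of_isCoh (Groth.L16.ProperFinite.isCoh_of_isInvertible hG))
      (Groth.Agent.Pic0.isFlatOver_of_isInvertible (z ≫ p) hG)
  have hspec : η ⤳ c := (PrimeSpectrum.le_iff_specializes η c).1 (by
    show η.asIdeal ≤ c.asIdeal; rw [hη]; exact bot_le)
  have heq : ∀ G : j.image.Modules, PicF.IsInvertible G →
      PerfAux.eulerChar (z ≫ p) G η = PerfAux.eulerChar (z ≫ p) G c := fun G hG =>
    hspec.mem_open ((hlc G hG).isOpen_fiber (PerfAux.eulerChar (z ≫ p) G c)) rfl
  have hη' : PerfAux.eulerChar (z ≫ p) ((Scheme.Modules.pullback z).obj M) η =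
      PerfAux.eulerChar (z ≫ p) (Coh.structureModule j.image) η := by
    rw [heq _ hMz, heq _ (Groth.L18.Ample.isInvertible_structureModule _), hc]
  -- the generic fibre of the closure is the curve
  letI : ((z ≫ p).fiber η).Over (Spec (CommRingCat.of (B.residueField η))) := ⟨(z ≫ p).fiberToSpecResidueField η⟩
  let q : (z ≫ p).fiber η ⟶ p.fiber η := pullback.map (z ≫ p) (B.fromSpecResidueField η) p
    (B.fromSpecResidueField η) z (𝟙 _) (𝟙 _) (by simp) (by simp)
  have hq1 : q ≫ p.fiberι η = (z ≫ p).fiberι η ≫ z := pullback.lift_fst _ _ _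
  have hq2 : q ≫ p.fiberToSpecResidueField η = (z ≫ p).fiberToSpecResidueField η :=
    (pullback.lift_snd _ _ _).trans (Category.comp_id _)
  have hsq : IsPullback q ((z ≫ p).fiberι η) (p.fiberι η) z := by
    refine (IsPullback.of_right (h₁₂ := p.fiberToSpecResidueField η) (h₂₂ := p)
      (v₁₃ := B.fromSpecResidueField η) ?_ hq1 (IsPullback.of_hasPullback p _).flip)
    rw [hq2]
    exact (IsPullback.of_hasPullback (z ≫ p) _).flip
  haveI : IsClosedImmersion q :=
    MorphismProperty.IsStableUnderBaseChange.of_isPullback (P := @IsClosedImmersion) hsq.flip inferInstance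
  let e : Y ⟶ (z ≫ p).fiber η := hsq.lift i j.toImage (by rw [Scheme.Hom.toImage_imageι])
  have he : e ≫ q = i := hsq.lift_fst _ _ _
  haveI : IsClosedImmersion (e ≫ q) := by rw [he]; infer_instance
  haveI : IsClosedImmersion e := IsClosedImmersion.of_comp_isClosedImmersion e q
  haveI : Surjective e := ⟨fun w => by
    have hemb : Topology.IsEmbedding (p.fiberι η) := (p.fiberι η).isEmbedding
    have hw : p.fiberι η (q w) ∈ closure (p.fiberι η '' Set.range i) := by
      rw [← Scheme.Hom.comp_apply, hq1, Scheme.Hom.comp_apply, ← Set.range_comp]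
      have : Set.range z.base = closure (Set.range j.base) := by
        exact (Scheme.IdealSheafData.range_subschemeι _).trans (Scheme.Hom.support_ker j)
      exact this.subset ⟨_, rfl⟩
    have : q w ∈ closure (Set.range i) := by
      rw [hemb.closure_eq_preimage_closure_image]; exact hw
    rw [i.isClosedMap.isClosed_range.closure_eq] at this
    obtain ⟨y, hy⟩ := this
    exact ⟨y, q.isClosedEmbedding.injective (by rw [← Scheme.Hom.comp_apply, he, hy])⟩⟩
  haveI : IsReduced ((z ≫ p).fiber η) := by
    haveI : IsReduced Y := inferInstance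
    haveI : IsReduced j.image := Groth.L20.Chevalley.isReduced_image j
    let u := (z ≫ p).fiberι η
    haveI : Flat u := MorphismProperty.pullback_fst _ _ inferInstance
    haveI : ∀ x, _root_.IsReduced (((z ≫ p).fiber η).presheaf.stalk x) := fun x => by
      algebraize [(u.stalkMap x).hom]
      haveI : Module.FaithfullyFlat (j.image.presheaf.stalk (u x)) (((z ≫ p).fiber η).presheaf.stalk x) :=
        @Module.FaithfullyFlat.of_flat_of_isLocalHom _ _ _ _ _ _ _ (Flat.stalkMap u x) (u.toLRSHom.prop x)
      have hb : Function.Bijective (u.stalkMap x).hom :=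
        ⟨‹RingHom.FaithfullyFlat _›.injective, u.stalkMap_surjective x⟩
      exact isReduced_of_injective (RingEquiv.ofBijective _ hb).symm.toRingHom (RingEquiv.injective _)
    exact isReduced_of_isReduced_stalk _
  haveI : IsIso e := isIso_of_isClosedImmersion_of_surjective e
  letI : Y.Over (Spec (CommRingCat.of (B.residueField η))) := ⟨i ≫ p.fiberToSpecResidueField η⟩
  haveI : IsProper (Y ↘ Spec (CommRingCat.of (B.residueField η))) :=
    inferInstanceAs (IsProper (i ≫ p.fiberToSpecResidueField η))
  haveI := Groth.L21.RR.isNoetherian_of_proper (X := Y) (B.residueField η)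
  have hstr : e ≫ (z ≫ p).fiberToSpecResidueField η = i ≫ p.fiberToSpecResidueField η := by
    rw [← he, Category.assoc, hq2]
  have key : ∀ G : j.image.Modules, Coh.IsCoh G →
      Curv2.euler (B.residueField η) Y ((Scheme.Modules.pullback e).obj ((Scheme.Modules.pullback ((z ≫ p).fiberι η)).obj G)) =
        PerfAux.eulerChar (z ≫ p) G η := fun G hG => by
    rw [eulerChar_eq]
    haveI : IsProper ((z ≫ p).fiber η ↘ Spec (CommRingCat.of (B.residueField η))) :=
      MorphismProperty.pullback_snd _ _ inferInstance
    have sq : IsPullback e (Y ↘ Spec (CommRingCat.of (B.residueField η)))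
        ((z ≫ p).fiber η ↘ Spec (CommRingCat.of (B.residueField η)))
        (Spec.map (CommRingCat.ofHom (algebraMap (B.residueField η) (B.residueField η)))) := by
      rw [Algebra.algebraMap_self, show CommRingCat.ofHom (RingHom.id (B.residueField η)) = 𝟙 _ from rfl, Spec.map_id]
      exact IsPullback.of_horiz_isIso ⟨hstr.trans (Category.comp_id _).symm⟩
    exact Groth.L21.RR.euler_pullback e sq (Groth.L16.AffineBC.isCoh_pullback _ hG)
  have hd1 : topologicalKrullDim Y ≤ (1 : ℕ) := by rw [hdim]; rfl
  show Pic13.curveDeg (B.residueField η) (i ≫ p.fiberToSpecResidueField η) _ = 0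
  show FGA.eulerCharLE (B.residueField η) Y _ 1 - FGA.eulerCharLE (B.residueField η) Y _ 1 = 0
  rw [Groth.L22.Inter.eulerCharLE_eq _ hd1, Groth.L22.Inter.eulerCharLE_eq _ hd1, sub_eq_zero]
  refine Eq.trans ?_ (((key _ (Groth.L16.ProperFinite.isCoh_of_isInvertible hMz)).trans hη').trans
    ((key _ Groth.L16.CohClosedPush.isCoh_structure).symm.trans ?_))
  · exact euler_iso ((Scheme.Modules.pullbackComp i (p.fiberι η)).app M ≪≫
      (Scheme.Modules.pullbackCongr (show i ≫ p.fiberι η = (e ≫ (z ≫ p).fiberι η) ≫ z by
        rw [← he, Category.assoc, hq1, Category.assoc])).app M ≪≫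
      ((Scheme.Modules.pullbackComp (e ≫ (z ≫ p).fiberι η) z).app M).symm ≪≫
      ((Scheme.Modules.pullbackComp e ((z ≫ p).fiberι η)).app _).symm)
  · exact euler_iso ((Scheme.Modules.pullback e).mapIso (Groth.L29.LocFree.pullbackUnitIso _) ≪≫
      Groth.L29.LocFree.pullbackUnitIso e)

include hL in
/-- The locus of numerical triviality is stable under generization. -/
theorem fibNum_generize [IsLocallyNoetherian S] {t s : S} (h : t ⤳ s) (hs : FibNum f L s) : FibNum f L t := by
  by_cases hne : t = s
  · exact hne ▸ hs
  obtain ⟨D, _, _, _, g, hg, hc⟩ := Groth.L09.Subtr.exists_dvr h hne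
  rw [← hg, ← fibNum_bc f hL g]
  rw [← hc, ← fibNum_bc f hL g] at hs
  exact fibNum_genPt (pullback.snd f g) (Groth.L18.Ample.isInvertible_pullback _ hL) _ _ rfl hs

end Groth.L02.TauOpen
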