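import Groth.Agent.L02.TauOpen.Change
import Groth.Agent.S4305
import Groth.Agent.S4306
import Groth.Agent.S1026
import Groth.Agent.S1334
import Groth.Agent.L22.Big.Nef
import Mathlib.FieldTheory.IsSepClosed

/-!
# Flat families with geometrically irreducible fibres
-/

set_option autoImplicit false
set_option backward.isDefEq.respectTransparency false
set_option linter.style.haveILetI false
set_option linter.unusedSectionVars false

universe u

open CategoryTheory CategoryTheory.Limits AlgebraicGeometry TopologicalSpace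

noncomputable section

namespace Groth.L02.TauOpen

variable {X S : Scheme.{u}} (f : X ⟶ S)

/-- Ample on every geometric fibre. -/
def GeomAmple (H : X.Modules) : Prop :=
  ∀ (Ω : Type u) [Field Ω] (σ : Spec (CommRingCat.of Ω) ⟶ S),
    CohB1.IsAmple ((Scheme.Modules.pullback (pullback.fst f σ)).obj H)

variable {f}

theorem GeomAmple.bc {H : X.Modules} (h : GeomAmple f H) {S' : Scheme.{u}} (g : S' ⟶ S) :
    GeomAmple (pullback.snd f g) ((Scheme.Modules.pullback (pullback.fst f g)).obj H) := fun Ω _ σ => by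
  let e := pullbackLeftPullbackSndIso f g σ
  exact Groth.L18.Ample.isAmple_of_iso ((Scheme.Modules.pullbackComp e.hom _).app H ≪≫
      (Scheme.Modules.pullbackCongr (pullbackLeftPullbackSndIso_hom_fst f g σ)).app H ≪≫
      ((Scheme.Modules.pullbackComp (pullback.fst (pullback.snd f g) σ) (pullback.fst f g)).app H).symm)
    (Groth.L18.Ample.isAmple_pullback_of_isAffineHom e.hom (h Ω (σ ≫ g)))

theorem GeomAmple.comp {H : X.Modules} (h : GeomAmple f H) {Z : Scheme.{u}} (z : Z ⟶ X) [IsAffineHom z] :
    GeomAmple (z ≫ f) ((Scheme.Modules.pullback z).obj H) := fun Ω _ σ => by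
  let q : pullback (z ≫ f) σ ⟶ pullback f σ :=
    pullback.map (z ≫ f) σ f σ z (𝟙 _) (𝟙 _) (by simp) (by simp)
  have hsq : IsPullback q (pullback.fst (z ≫ f) σ) (pullback.fst f σ) z := by
    refine (IsPullback.of_right (h₁₂ := pullback.snd f σ) (h₂₂ := f) (v₁₃ := σ) ?_ (by simp [q])
      (IsPullback.of_hasPullback f σ).flip)
    rw [show q ≫ pullback.snd f σ = pullback.snd (z ≫ f) σ by simp [q]]
    exact (IsPullback.of_hasPullback (z ≫ f) σ).flip
  haveI : IsAffineHom q := MorphismProperty.IsStableUnderBaseChange.of_isPullback (P := @IsAffineHom) hsq.flip inferInstance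
  exact Groth.L18.Ample.isAmple_of_iso ((Scheme.Modules.pullbackComp q _).app H ≪≫
      (Scheme.Modules.pullbackCongr hsq.w).app H ≪≫
      ((Scheme.Modules.pullbackComp (pullback.fst (z ≫ f) σ) z).app H).symm)
    (Groth.L18.Ample.isAmple_pullback_of_isAffineHom q (h Ω σ))

variable (f)

/-- Over an algebraically closed field, one geometric component means irreducible. -/
theorem irreducible_of_count (h : ∀ s, MoreMor.nGeomIrredComp f s = 1) (Ω : Type u) [Field Ω]
    (σ : Spec (CommRingCat.of Ω) ⟶ S) : IrreducibleSpace ↥(pullback f σ) := by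
  let t := IsLocalRing.closedPoint Ω
  let p := pullback.snd f σ
  let sep := Spec.map (CommRingCat.ofHom (algebraMap ((Spec (CommRingCat.of Ω)).residueField t)
    (SeparableClosure ((Spec (CommRingCat.of Ω)).residueField t))))
  have hc : (irreducibleComponents ↥(MoreMor.geomFiber p t)).encard = 1 :=
    (Groth.Agent.S1334.result f p (pullback.fst f σ) σ (IsPullback.of_hasPullback f σ) t).trans (h (σ t))
  obtain ⟨C, hC⟩ := Set.encard_eq_one.1 hc
  have huniv : C = Set.univ := Set.eq_univ_of_forall fun x => by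
    have hx := irreducibleComponent_mem_irreducibleComponents x
    rw [hC] at hx
    rw [← Set.mem_singleton_iff.1 hx]
    exact mem_irreducibleComponent
  have hirr : IsIrreducible C := (hC.superset rfl).1
  subst huniv
  let c : MoreMor.geomFiber p t ⟶ pullback f σ :=
    pullback.fst (p.fiberToSpecResidueField t) sep ≫ p.fiberι t
  haveI : Surjective sep := ⟨fun x => ⟨default, Subsingleton.elim _ _⟩⟩
  haveI : Surjective (pullback.fst (p.fiberToSpecResidueField t) sep) :=
    MorphismProperty.pullback_fst _ _ inferInstance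
  haveI : Surjective (p.fiberι t) := ⟨fun x => by
    have : x ∈ Set.range (p.fiberι t) := by
      rw [Scheme.Hom.range_fiberι]
      exact Subsingleton.elim (α := PrimeSpectrum Ω) _ _
    exact this⟩
  have := hirr.image c.base c.continuous.continuousOn
  rw [Set.image_univ, Set.range_eq_univ.2 (Surjective.surj (f := c))] at this
  exact irreducibleSpace_def _ |>.2 this

/-- Irreducible over an algebraically closed field means one geometric component. -/
theorem count_eq_one (Ω : Type u) [Field Ω] [IsAlgClosed Ω] (σ : Spec (CommRingCat.of Ω) ⟶ S) (s : S)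
    (hs : σ (IsLocalRing.closedPoint Ω) = s) [IrreducibleSpace ↥(pullback f σ)] :
    MoreMor.nGeomIrredComp f s = 1 := by
  let t := IsLocalRing.closedPoint Ω
  let p := pullback.snd f σ
  subst hs
  refine (Groth.Agent.S1334.result f p (pullback.fst f σ) σ (IsPullback.of_hasPullback f σ) t).symm.trans ?_
  let κ := (Spec (CommRingCat.of Ω)).residueField t
  haveI : IsAlgClosed κ := by
    haveI : t.asIdeal.IsMaximal := by
      rw [(Ideal.eq_bot_or_top t.asIdeal).resolve_right t.isPrime.ne_top]; exact Ideal.bot_isMaximal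
    have hb : Function.Bijective (algebraMap Ω t.asIdeal.ResidueField) :=
      ⟨RingHom.injective _, Ideal.algebraMap_residueField_surjective _⟩
    exact IsAlgClosed.of_ringEquiv Ω _ ((RingEquiv.ofBijective _ hb).trans
      (Scheme.Spec.residueFieldIso (CommRingCat.of Ω) t).commRingCatIsoToRingEquiv.symm)
  haveI : IsIso (CommRingCat.ofHom (algebraMap κ (SeparableClosure κ))) :=
    (ConcreteCategory.isIso_iff_bijective _).2 (⟨RingHom.injective _, IsSepClosed.algebraMap_surjective κ _⟩)
  haveI : IsIso (Spec.map (CommRingCat.ofHom (algebraMap κ (SeparableClosure κ)))) := inferInstance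
  haveI : IsIso (pullback.fst (p.fiberToSpecResidueField t)
      (Spec.map (CommRingCat.ofHom (algebraMap κ (SeparableClosure κ))))) := inferInstance
  haveI : Surjective (p.fiberι t) := ⟨fun x => by
    have : x ∈ Set.range (p.fiberι t) := by
      rw [Scheme.Hom.range_fiberι]
      exact Subsingleton.elim (α := PrimeSpectrum Ω) _ _
    exact this⟩
  let c : MoreMor.geomFiber p t ⟶ pullback f σ :=
    pullback.fst (p.fiberToSpecResidueField t) _ ≫ p.fiberι t
  have hc : IsHomeomorph c.base := by
    haveI : Surjective c := inferInstanceAs (Surjective (pullback.fst (p.fiberToSpecResidueField t) _ ≫ p.fiberι t))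
    haveI : IsPreimmersion (p.fiberι t) := inferInstance
    exact isHomeomorph_iff_isEmbedding_surjective.2 ⟨c.isEmbedding, Surjective.surj⟩
  haveI : IrreducibleSpace ↥(MoreMor.geomFiber p t) :=
    irreducibleSpace_def _ |>.2 (by
      have h1 := (IrreducibleSpace.isIrreducible_univ ↥(pullback f σ)).image hc.homeomorph.symm
        hc.homeomorph.symm.continuous.continuousOn
      rw [Set.image_univ, EquivLike.range_eq_univ] at h1
      exact h1)
  show (irreducibleComponents ↥(MoreMor.geomFiber p t)).encard = 1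
  rw [irreducibleComponents_eq_singleton, Set.encard_singleton]

variable [IsProper f] [Flat f] [LocallyOfFinitePresentation f] {L : X.Modules} (hL : PicF.IsInvertible L)

include hL in
/-- Flat, with irreducible geometric fibres: the locus is closed. -/
theorem isClosed_fibNum [IsLocallyNoetherian X] {H : X.Modules} (hHi : PicF.IsInvertible H) (hH : GeomAmple f H)
    (hirr : ∀ (Ω : Type u) [Field Ω] (σ : Spec (CommRingCat.of Ω) ⟶ S), IrreducibleSpace ↥(pullback f σ)) :
    IsClosed {s : S | FibNum f L s} := by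
  classical
  obtain ⟨H', hH'i, ⟨eH⟩⟩ := Groth.L08.Cube.exists_inverse hHi
  obtain ⟨L', hL'i, ⟨eL⟩⟩ := Groth.L08.Cube.exists_inverse hL
  have hinv : ∀ (A B : X.Modules), PicF.IsInvertible A → PicF.IsInvertible B → ∀ a b : ℕ,
      PicF.IsInvertible (CohB1.tensorMod (CohB1.tensorPow A a) (CohB1.tensorPow B b)) := fun A B hA hB a b =>
    Groth.L18.GenLoc.isInvertible_tensor (Groth.L18.Ample.isInvertible_tensorPow hA a)
      (Groth.L18.Ample.isInvertible_tensorPow hB b)
  have hlc : ∀ G : X.Modules, PicF.IsInvertible G → IsLocallyConstant (fun s => PerfAux.eulerChar f G s) :=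
    fun G hG => Groth.Agent.S1026.result f G
      (Groth.L15.Ref.isFP_of_isCoh (Groth.L16.ProperFinite.isCoh_of_isInvertible hG))
      (Groth.Agent.Pic0.isFlatOver_of_isInvertible f hG)
  have hcl : ∀ G G₀ : X.Modules, PicF.IsInvertible G → PicF.IsInvertible G₀ →
      IsClosed {s : S | PerfAux.eulerChar f G s = PerfAux.eulerChar f G₀ s} := fun G G₀ hG hG₀ => by
    simpa using ((hlc G hG).comp₂ (hlc G₀ hG₀) (fun a b => a = b)).isClosed_fiber True
  let E : ℕ → ℕ → Set S := fun a b =>
    {s | PerfAux.eulerChar f (CohB1.tensorMod (CohB1.tensorPow L a) (CohB1.tensorPow H b)) s =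
        PerfAux.eulerChar f (CohB1.tensorPow H b) s} ∩
    {s | PerfAux.eulerChar f (CohB1.tensorMod (CohB1.tensorPow L a) (CohB1.tensorPow H' b)) s =
        PerfAux.eulerChar f (CohB1.tensorPow H' b) s} ∩
    {s | PerfAux.eulerChar f (CohB1.tensorMod (CohB1.tensorPow L' a) (CohB1.tensorPow H b)) s =
        PerfAux.eulerChar f (CohB1.tensorPow H b) s} ∩
    {s | PerfAux.eulerChar f (CohB1.tensorMod (CohB1.tensorPow L' a) (CohB1.tensorPow H' b)) s =
        PerfAux.eulerChar f (CohB1.tensorPow H' b) s}
  suffices hset : {s : S | FibNum f L s} = ⋂ a, ⋂ b, E a b by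
    rw [hset]
    refine isClosed_iInter fun a => isClosed_iInter fun b => ?_
    have hb := Groth.L18.Ample.isInvertible_tensorPow hHi b
    have hb' := Groth.L18.Ample.isInvertible_tensorPow hH'i b
    exact (((hcl _ _ (hinv _ _ hL hHi a b) hb).inter (hcl _ _ (hinv _ _ hL hH'i a b) hb')).inter
      (hcl _ _ (hinv _ _ hL'i hHi a b) hb)).inter (hcl _ _ (hinv _ _ hL'i hH'i a b) hb')
  ext s
  simp only [Set.mem_iInter, Set.mem_ofPred_eq]
  obtain ⟨Ω, _, _, σ, hs⟩ := exists_geomPoint s
  letI : (pullback f σ).Over (Spec (CommRingCat.of Ω)) := ⟨pullback.snd f σ⟩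
  haveI : IsProper (pullback f σ ↘ Spec (CommRingCat.of Ω)) := MorphismProperty.pullback_snd _ _ inferInstance
  haveI := hirr Ω σ
  haveI := Groth.L21.RR.isNoetherian_of_proper (X := pullback f σ) Ω
  obtain ⟨d, hd⟩ := Groth.L03.Euler.exists_dim_bound Ω (pullback f σ)
  let P := Scheme.Modules.pullback (pullback.fst f σ)
  have hpi : ∀ {A B : X.Modules}, (CohB1.tensorMod A B ≅ Coh.structureModule X) →
      Nonempty (CohB1.tensorMod (P.obj A) (P.obj B) ≅ Coh.structureModule (pullback f σ)) := fun e =>
    ⟨Groth.L29.DC.PullTensor.pullTensor _ _ _ ≪≫ P.mapIso e ≪≫ Groth.L29.LocFree.pullbackUnitIso _⟩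
  have hLi : PicF.IsInvertible (P.obj L) := Groth.L18.Ample.isInvertible_pullback _ hL
  have hE : ∀ (A : X.Modules), PicF.IsInvertible A → PerfAux.eulerChar f A s =
      FGA.eulerCharLE Ω (pullback f σ) (P.obj A) d := fun A hA => by
    rw [Groth.L22.Inter.eulerCharLE_eq Ω hd]
    exact Groth.L02.Pic13Deg.euler_geomFibre f (Groth.L16.ProperFinite.isCoh_of_isInvertible hA) Ω σ s hs rfl
  have hpow : ∀ (A : X.Modules) (a : ℕ), PicF.IsInvertible A → PerfAux.eulerChar f (CohB1.tensorPow A a) s =
      FGA.eulerCharLE Ω (pullback f σ) (CohB1.tensorPow (P.obj A) a) d := fun A a hA => by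
    obtain ⟨e⟩ := Groth.L05.EulerDiv.nonempty_pullback_tensorPow (pullback.fst f σ) A a
    rw [hE _ (Groth.L18.Ample.isInvertible_tensorPow hA a), Groth.L22.Inter.eulerCharLE_eq Ω hd,
      Groth.L22.Inter.eulerCharLE_eq Ω hd]
    exact Groth.L03.Euler.euler_iso e
  have hten : ∀ (A B : X.Modules) (a b : ℕ), PicF.IsInvertible A → PicF.IsInvertible B →
      PerfAux.eulerChar f (CohB1.tensorMod (CohB1.tensorPow A a) (CohB1.tensorPow B b)) s =
      FGA.eulerCharLE Ω (pullback f σ) (CohB1.tensorMod (CohB1.tensorPow (P.obj A) a) (CohB1.tensorPow (P.obj B) b)) d :=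
    fun A B a b hA hB => by
    obtain ⟨e⟩ := Groth.L05.EulerDiv.nonempty_pullback_tensorPow (pullback.fst f σ) A a
    obtain ⟨e'⟩ := Groth.L05.EulerDiv.nonempty_pullback_tensorPow (pullback.fst f σ) B b
    rw [hE _ (hinv A B hA hB a b), Groth.L22.Inter.eulerCharLE_eq Ω hd, Groth.L22.Inter.eulerCharLE_eq Ω hd]
    exact Groth.L03.Euler.euler_iso ((Groth.L29.DC.PullTensor.pullTensor _ _ _).symm ≪≫
      Groth.L00.Tensor.tensorIso e e')
  simp only [E, Set.mem_inter_iff, Set.mem_ofPred_eq, hten _ _ _ _ hL hHi, hten _ _ _ _ hL hH'i,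
    hten _ _ _ _ hL'i hHi, hten _ _ _ _ hL'i hH'i, hpow _ _ hHi, hpow _ _ hH'i, and_assoc]
  rw [← geomNum_iff f hL Ω σ s hs]
  exact ⟨fun h a b => Groth.Agent.S4305.result Ω (pullback f σ) d hd _ _ _ _ (hH Ω σ) hLi (hpi eH) (hpi eL)
      (Groth.Agent.S4277.result Ω _ _ hLi h) a b,
    fun h => Groth.Agent.S4278.result Ω _ _ hLi
      (Groth.Agent.S4306.result Ω (pullback f σ) d hd _ _ _ _ (hH Ω σ) hLi (hpi eH) (hpi eL) h)⟩

end Groth.L02.TauOpen
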